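import Mathlib.AlgebraicGeometry.Morphisms.FormallyUnramified
import Mathlib.Algebra.DualNumber
import Mathlib.RingTheory.LocalRing.Module

/-! Formal unramifiedness of locally finite type morphisms is detected by tangent vectors at field points. -/

set_option autoImplicit false
set_option linter.style.haveILetI false

universe u

open CategoryTheory AlgebraicGeometry TensorProduct KaehlerDifferential

namespace Groth.Agent.IsoNatLib.Tangent

/-- The spectrum of the dual numbers. -/
noncomputable abbrev dualSpec (K : Type u) [CommRing K] : Scheme.{u} := Spec (CommRingCat.of (DualNumber K))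

/-- The projection of the dual numbers to the base. -/
noncomputable abbrev proj (K : Type u) [CommRing K] : dualSpec K ⟶ Spec (CommRingCat.of K) :=
  Spec.map (CommRingCat.ofHom (TrivSqZeroExt.inlHom K K))

/-- The closed point of the dual numbers. -/
noncomputable abbrev clPt (K : Type u) [CommRing K] : Spec (CommRingCat.of K) ⟶ dualSpec K :=
  Spec.map (CommRingCat.ofHom (TrivSqZeroExt.fstHom K K K).toRingHom)

theorem clPt_proj (K : Type u) [CommRing K] : clPt K ≫ proj K = 𝟙 _ := by
  rw [← Spec.map_comp, ← CommRingCat.ofHom_comp,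
    show (TrivSqZeroExt.fstHom K K K).toRingHom.comp (TrivSqZeroExt.inlHom K K) = RingHom.id K from
      RingHom.ext fun r => TrivSqZeroExt.fst_inl K r, CommRingCat.ofHom_id, Spec.map_id]

theorem subsingleton_kaehler {A B : Type u} [CommRing A] [CommRing B] [Algebra A B] [Algebra.EssFiniteType A B]
    (H : ∀ (q : Ideal B) [q.IsPrime] (ψ : B →+* DualNumber q.ResidueField),
      (∀ b, (ψ b).fst = algebraMap B q.ResidueField b) →
      (∀ a, ψ (algebraMap A B a) = TrivSqZeroExt.inl (algebraMap B q.ResidueField (algebraMap A B a))) →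
      ∀ b, ψ b = TrivSqZeroExt.inl (algebraMap B q.ResidueField b)) :
    Subsingleton Ω[B⁄A] := by
  rw [← Module.support_eq_empty_iff (R := B)]
  refine Set.eq_empty_iff_forall_notMem.2 fun q hq => ?_
  rw [Module.mem_support_iff_nontrivial_residueField_tensorProduct] at hq
  let κ := q.asIdeal.ResidueField
  obtain ⟨v, hv⟩ := exists_ne (0 : κ ⊗[B] Ω[B⁄A])
  have hex : ∃ ℓ : κ ⊗[B] Ω[B⁄A] →ₗ[κ] κ, ℓ v ≠ 0 := by
    by_contra hc
    exact hv ((Module.forall_dual_apply_eq_zero_iff κ v).1 fun ℓ => by_contra fun h => hc ⟨ℓ, h⟩)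
  obtain ⟨ℓ, hℓ⟩ := hex
  let d : B → κ := fun b => ℓ (1 ⊗ₜ D A B b)
  have hsm : ∀ (b : B) (w : κ ⊗[B] Ω[B⁄A]), ℓ (b • w) = algebraMap B κ b * ℓ w := fun b w => by
    rw [← algebraMap_smul κ b w, ℓ.map_smul, smul_eq_mul]
  let ψ : B →+* DualNumber κ :=
    { toFun := fun b => TrivSqZeroExt.inl (algebraMap B κ b) + TrivSqZeroExt.inr (d b)
      map_one' := by simp [d]
      map_mul' := fun b c => by
        refine TrivSqZeroExt.ext (by simp) ?_
        simp only [d, Derivation.leibniz, TensorProduct.tmul_add, map_add, TensorProduct.tmul_smul, hsm]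
        simp [mul_comm]
      map_zero' := by simp [d]
      map_add' := fun b c => by
        refine TrivSqZeroExt.ext (by simp <;> ring) ?_
        simp [d, TensorProduct.tmul_add] <;> ring }
  have hd : ∀ b, d b = 0 := fun b => by
    have := congrArg TrivSqZeroExt.snd (H q.asIdeal ψ (fun b => by simp [ψ]; rfl) (fun a => by simp [ψ, d]; rfl) b)
    simpa [ψ] using this
  suffices hall : ∀ x, ℓ x = 0 from hℓ (hall v)
  intro x
  induction x using TensorProduct.induction_on with
  | zero => simp
  | add x y hx hy => rw [map_add, hx, hy]; ring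
  | tmul c w =>
    have hw : ∀ w, ℓ ((1 : κ) ⊗ₜ w) = 0 := by
      intro w
      have hmem : w ∈ Submodule.span B (Set.range (D A B)) := by rw [span_range_derivation]; trivial
      induction hmem using Submodule.span_induction with
      | mem x hx => obtain ⟨b, rfl⟩ := hx; exact hd b
      | zero => simp
      | add x y _ _ hx hy => rw [TensorProduct.tmul_add, map_add, hx, hy]; ring
      | smul b x _ hx => rw [TensorProduct.tmul_smul, hsm, hx, mul_zero]
    rw [show c ⊗ₜ[B] w = c • ((1 : κ) ⊗ₜ[B] w) by rw [TensorProduct.smul_tmul', smul_eq_mul, mul_one],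
      ℓ.map_smul, hw, smul_zero]

theorem formallyUnramified_of_tangent {X Y : Scheme.{u}} (f : X ⟶ Y) [LocallyOfFiniteType f]
    (H : ∀ (K : Type u) [Field K] (g₁ g₂ : dualSpec K ⟶ X) (y : Spec (CommRingCat.of K) ⟶ Y),
      clPt K ≫ g₁ = clPt K ≫ g₂ → g₁ ≫ f = proj K ≫ y → g₂ ≫ f = proj K ≫ y → g₁ = g₂) :
    FormallyUnramified f := by
  refine ⟨fun {U} hU {V} hV hVU => ?_⟩
  have hft := f.finiteType_appLE hU hV hVU
  algebraize [(f.appLE U V hVU).hom]
  refine ⟨subsingleton_kaehler fun q hq ψ hψ hA b => ?_⟩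
  let κ := q.ResidueField
  let r₀ : Γ(X, V) →+* κ := algebraMap Γ(X, V) κ
  let g₁ := Spec.map (CommRingCat.ofHom ψ) ≫ hV.fromSpec
  let g₂ := Spec.map (CommRingCat.ofHom ((TrivSqZeroExt.inlHom κ κ).comp r₀)) ≫ hV.fromSpec
  let y := Spec.map (CommRingCat.ofHom (r₀.comp (algebraMap Γ(Y, U) Γ(X, V)))) ≫ hU.fromSpec
  have e : g₁ = g₂ := by
    refine H κ g₁ g₂ y ?_ ?_ ?_
    · simp only [g₁, g₂, ← Spec.map_comp_assoc, ← CommRingCat.ofHom_comp]
      congr 3
      exact RingHom.ext fun b => by simpa [r₀] using hψ b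
    · simp only [g₁, y, Category.assoc, ← hU.SpecMap_appLE_fromSpec f hV hVU, ← Spec.map_comp_assoc]
      congr 2
      exact CommRingCat.hom_ext (RingHom.ext fun a => hA a)
    · simp only [g₂, y, Category.assoc, ← hU.SpecMap_appLE_fromSpec f hV hVU, ← Spec.map_comp_assoc]
      congr 2
  rw [cancel_mono, Spec.map_inj] at e
  exact congr($e b)

end Groth.Agent.IsoNatLib.Tangent
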