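import Groth.Agent.IsoNatLib.Tangent.Crit
import Groth.Agent.Stk19b.DMSlice.Main

/-! Stacks whose automorphisms have no tangent vectors are Deligne–Mumford. -/

set_option autoImplicit false
set_option linter.style.haveILetI false
set_option backward.isDefEq.respectTransparency false
set_option backward.isDefEq.respectTransparency.types false

universe u

open CategoryTheory CategoryTheory.Limits AlgebraicGeometry Opposite FibCat
open Groth.Agent.Stk19 Groth.Agent.Stk19b Groth.Agent.Stk19b.DMSlice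

namespace Groth.Agent.IsoNatLib.Tangent

variable {S : Scheme.{u}} {𝒳 : AlgSt.Cat S} {K : Type u} [CommRing K]

/-- The dual numbers over a point of the base. -/
noncomputable abbrev dT (j₀ : Spec (CommRingCat.of K) ⟶ S) : Over S := Over.mk (proj K ≫ j₀)

/-- Projection to the point. -/
noncomputable abbrev dπ (j₀ : Spec (CommRingCat.of K) ⟶ S) : dT j₀ ⟶ Over.mk j₀ := Over.homMk (proj K)

/-- The point. -/
noncomputable abbrev dι (j₀ : Spec (CommRingCat.of K) ⟶ S) : Over.mk j₀ ⟶ dT j₀ :=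
  Over.homMk (clPt K) (by show clPt K ≫ proj K ≫ j₀ = j₀; rw [← Category.assoc, clPt_proj, Category.id_comp])

/-- Automorphisms of constant objects over dual numbers which are trivial at the point are trivial. -/
def InfRigid (𝒳 : AlgSt.Cat S) : Prop :=
  ∀ (K : Type u) [Field K] (j₀ : Spec (CommRingCat.of K) ⟶ S) (a a₀ z : 𝒳.obj) (ea : 𝒳.p.obj a = dT j₀)
    (e₀ : 𝒳.p.obj a₀ = Over.mk j₀) (ez : 𝒳.p.obj z = Over.mk j₀) (ν₀ : a ⟶ a₀) (ν : z ⟶ a) (φ : a ⟶ a),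
    𝒳.p.map ν₀ = eqToHom ea ≫ dπ j₀ ≫ eqToHom e₀.symm → 𝒳.p.map ν = eqToHom ez ≫ dι j₀ ≫ eqToHom ea.symm →
    𝒳.p.map φ = 𝟙 _ → ν ≫ φ = ν → φ = 𝟙 a

theorem infRigid_of_isDMOver (h : IsFibGrpd 𝒳.p) (hd : AlgSt.IsDMOver 𝒳) : InfRigid 𝒳 := by
  intro K _ j₀ a a₀ z ea e₀ ez ν₀ ν φ _ hν hφ hνφ
  refine aut_eq_id_of_surjective h hd φ hφ ν (fun p => ?_) hνφ
  have hsurj : Function.Surjective (dι j₀).left := fun x => by
    show x ∈ Set.range (PrimeSpectrum.comap (TrivSqZeroExt.fstHom K K K).toRingHom)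
    rw [range_comap_of_surjective _ _ fun k => ⟨TrivSqZeroExt.inl k, TrivSqZeroExt.fst_inl K k⟩]
    intro r hr
    have hr2 : r * r = 0 := by
      have h1 : TrivSqZeroExt.fst r = 0 := hr
      exact TrivSqZeroExt.ext (by simp [h1]) (by simp [h1])
    exact (x.isPrime.mem_or_mem (hr2 ▸ Ideal.zero_mem _)).elim id id
  have h1 : ∀ {A B : Over S} (e : A = B), Function.Surjective (eqToHom e).left := fun e => by
    subst e; exact fun x => ⟨x, rfl⟩
  obtain ⟨p₁, rfl⟩ := h1 ea.symm p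
  obtain ⟨p₂, rfl⟩ := hsurj p₁
  obtain ⟨p₃, rfl⟩ := h1 ez p₂
  exact ⟨p₃, by rw [hν, Over.comp_left, Over.comp_left, Scheme.Hom.comp_apply, Scheme.Hom.comp_apply]⟩

variable {U W : Over S} {u : overCat U ⥤ᵇ 𝒳} {F : AlgSp.Sp S} {e : AlgSt.ofSp F ⥤ᵇ fp u u}

/-- The pair of maps from an étale chart of the self fibre product is formally unramified. -/
theorem formallyUnramified_lift_of_infRigid (h : IsFibGrpd 𝒳.p) (he : IsEquivOver e) (hd : InfRigid 𝒳)
    (ω : (AlgSp.yon S).obj W ⟶ F) (hωE : AlgSp.RepWith @Etale ω) (p q : W ⟶ U) [Smooth p.left]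
    (hp : (AlgSp.yon S).map p = ω ≫ P e) (hq : (AlgSp.yon S).map q = ω ≫ Q e) :
    FormallyUnramified (pullback.lift p.left q.left ((Over.w p).trans (Over.w q).symm)) := by
  let f := pullback.lift p.left q.left ((Over.w p).trans (Over.w q).symm)
  have : LocallyOfFiniteType (f ≫ pullback.fst _ _) := by
    rw [pullback.lift_fst]
    infer_instance
  have : LocallyOfFiniteType f := locallyOfFiniteType_of_comp f (pullback.fst _ _)
  refine formallyUnramified_of_tangent f fun K _ g₁ g₂ y hi hy₁ hy₂ => ?_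
  let j₀ : Spec (CommRingCat.of K) ⟶ S := y ≫ pullback.fst _ _ ≫ U.hom
  have hg : ∀ g : dualSpec K ⟶ W.left, g ≫ f = proj K ≫ y → g ≫ W.hom = proj K ≫ j₀ := fun g hg => by
    rw [← Over.w p, show p.left = f ≫ pullback.fst _ _ from (pullback.lift_fst _ _ _).symm, Category.assoc,
      reassoc_of% hg]
  let h₁ : dT j₀ ⟶ W := Over.homMk g₁ (hg g₁ hy₁)
  let h₂ : dT j₀ ⟶ W := Over.homMk g₂ (hg g₂ hy₂)
  let a₀ : Over.mk j₀ ⟶ U := Over.homMk (y ≫ pullback.fst _ _) (by simp [j₀])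
  have hti : dι j₀ ≫ h₁ = dι j₀ ≫ h₂ := Over.OverMorphism.ext hi
  have hpp : h₁ ≫ p = h₂ ≫ p := Over.OverMorphism.ext (by
    have := congrArg (· ≫ pullback.fst _ _) (hy₁.trans hy₂.symm)
    simpa [f, h₁, h₂] using this)
  have hqq : h₁ ≫ q = h₂ ≫ q := Over.OverMorphism.ext (by
    have := congrArg (· ≫ pullback.snd _ _) (hy₁.trans hy₂.symm)
    simpa [f, h₁, h₂] using this)
  have hconst : dπ j₀ ≫ a₀ = h₁ ≫ p := Over.OverMorphism.ext (by
    have := congrArg (· ≫ pullback.fst _ _) hy₁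
    simp [f, a₀] at this ⊢
    exact this.symm)
  obtain ⟨φ₁, hφ₁⟩ := exists_tri h ((AlgSp.yon S).map h₁ ≫ ω) (a := h₁ ≫ p) (b := h₁ ≫ q)
    (by rw [Functor.map_comp, hp, Category.assoc]) (by rw [Functor.map_comp, hq, Category.assoc])
  obtain ⟨φ₂, hφ₂⟩ := exists_tri h ((AlgSp.yon S).map h₂ ≫ ω) (a := h₁ ≫ p) (b := h₁ ≫ q)
    (by rw [hpp, Functor.map_comp, hp, Category.assoc]) (by rw [hqq, Functor.map_comp, hq, Category.assoc])
  let t := dι j₀
  obtain ⟨φ₁', r₁⟩ := Tri.exists_restricts h t (a' := t ≫ h₁ ≫ p) (b' := t ≫ h₁ ≫ q) rfl rfl φ₁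
  obtain ⟨φ₂', r₂⟩ := Tri.exists_restricts h t (a' := t ≫ h₁ ≫ p) (b' := t ≫ h₁ ≫ q) rfl rfl φ₂
  have hφ' : φ₁' = φ₂' := by
    refine tri_unique h (isTri_restrict h he t hφ₁ r₁) ?_
    rw [← Category.assoc, ← Functor.map_comp, hti, Functor.map_comp, Category.assoc]
    exact isTri_restrict h he t hφ₂ r₂
  have hφ : φ₁ = φ₂ := by
    have := Tri.isIso h φ₂
    apply Tri.ext'
    rw [← Category.comp_id φ₁.hom, ← IsIso.inv_hom_id φ₂.hom, ← Category.assoc,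
      hd K j₀ (pt u (h₁ ≫ p)) (pt u a₀) (pt u (t ≫ h₁ ≫ p)) (pt_base u _) (pt_base u _) (pt_base u _)
        (res (dπ j₀) hconst) (res t rfl) (φ₁.hom ≫ inv φ₂.hom) (map_res _ _) (map_res _ _)
        (by simp [φ₁.map_hom, φ₂.map_hom]) ?_, Category.id_comp]
    have r₁' : φ₁'.hom ≫ res t (a := h₁ ≫ q) (a' := t ≫ h₁ ≫ q) rfl =
        res t (a := h₁ ≫ p) (a' := t ≫ h₁ ≫ p) rfl ≫ φ₁.hom := r₁
    have r₂' : φ₂'.hom ≫ res t (a := h₁ ≫ q) (a' := t ≫ h₁ ≫ q) rfl =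
        res t (a := h₁ ≫ p) (a' := t ≫ h₁ ≫ p) rfl ≫ φ₂.hom := r₂
    rw [← reassoc_of% r₁', hφ', reassoc_of% r₂']
    simp
  have hγ : (AlgSp.yon S).map h₂ ≫ ω = (AlgSp.yon S).map h₁ ≫ ω := point_ext h he (hφ ▸ hφ₂) hφ₁
  have sq := hωE.rep.isPullback ((AlgSp.yon S).map h₁ ≫ ω)
  let l₁ := sq.lift ((AlgSp.yon S).map h₁) (𝟙 _) (by rw [Category.id_comp])
  let l₂ := sq.lift ((AlgSp.yon S).map h₂) (𝟙 _) (by rw [Category.id_comp, hγ])
  have : Etale (hωE.rep.snd ((AlgSp.yon S).map h₁ ≫ ω)).left := hωE.property_snd _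
  have hsurj : Function.Surjective (clPt K) := fun x => by
    show x ∈ Set.range (PrimeSpectrum.comap (TrivSqZeroExt.fstHom K K K).toRingHom)
    rw [range_comap_of_surjective _ _ fun k => ⟨TrivSqZeroExt.inl k, TrivSqZeroExt.fst_inl K k⟩]
    intro r hr
    have hr2 : r * r = 0 := by
      have h1 : TrivSqZeroExt.fst r = 0 := hr
      exact TrivSqZeroExt.ext (by simp [h1]) (by simp [h1])
    exact (x.isPrime.mem_or_mem (hr2 ▸ Ideal.zero_mem _)).elim id id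
  have hl : l₁ = l₂ := eq_of_open_diag
    ((AlgSp.repWith_diagonal_yon_map_iff @IsOpenImmersion (hωE.rep.snd ((AlgSp.yon S).map h₁ ≫ ω))).2 inferInstance)
    l₁ l₂ (sq.lift_snd _ _ _) (sq.lift_snd _ _ _) fun x => ⟨_, dι j₀, hsurj x, sq.hom_ext
      (by simp only [l₁, l₂, Category.assoc, sq.lift_fst, ← Functor.map_comp, hti])
      (by simp only [l₁, l₂, Category.assoc, sq.lift_snd])⟩
  have := congrArg (· ≫ hωE.rep.fst ((AlgSp.yon S).map h₁ ≫ ω)) hl
  simp only [l₁, l₂, sq.lift_fst] at this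
  exact congrArg CommaMorphism.left ((AlgSp.yon S).map_injective this)

theorem isDM_of_infRigid {K : Precoverage Scheme.{u}} (h𝒳 : AlgSt.IsAlgStack K 𝒳) (hd : InfRigid 𝒳) :
    AlgSt.IsDM K 𝒳 :=
  isDM_of_formallyUnramified h𝒳 fun _ _ _ he ω hωE p q _ hp hq =>
    formallyUnramified_lift_of_infRigid h𝒳.isStack.1 he hd ω hωE p q hp hq

end Groth.Agent.IsoNatLib.Tangent
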