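import Groth.Agent.IsoNatLib.Twist.ExtTriv
import Groth.Agent.Stk19b.DMSlice.Main

/-!
# Objects twisted on a thickening of a doubled scheme

Over a stack with unramified diagonal a twist on a thickened overlap which is trivial on the reduced
overlap is trivial. This is read on isomorphism classes.
-/

set_option autoImplicit false
set_option linter.style.haveILetI false
set_option backward.isDefEq.respectTransparency false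
set_option backward.isDefEq.respectTransparency.types false

universe u

open CategoryTheory CategoryTheory.Limits AlgebraicGeometry Opposite FibCat
open Groth.Agent.Stk19 Groth.Agent.Desc19 Groth.Agent.IsoNatLib.Twist
open Groth.Agent.Stk19b.DMSlice (aut_eq_id_of_surjective)

namespace Groth.Agent.IsoNatLib.Tangent

variable {S : Scheme.{u}} {𝒳 𝒴 : AlgSt.Cat S}

/-- A doubled scheme, retracting onto a doubled closed subscheme with the same points of the overlap. -/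
structure Thick {T₀ A O P A₀ O₀ P₀ : Over S} (i : O ⟶ A) (ι₁ ι₂ : A ⟶ P) (i₀ : O₀ ⟶ A₀) (κ₁ κ₂ : A₀ ⟶ P₀)
    (ιA : A₀ ⟶ A) (ιO : O₀ ⟶ O) (ιP : P₀ ⟶ P) (r : A ⟶ A₀) (l₀ : A₀ ⟶ T₀) (π : P ⟶ T₀) (π₀ : P₀ ⟶ T₀) :
    Prop where
  hP : Doubled i P ι₁ ι₂
  hP₀ : Doubled i₀ P₀ κ₁ κ₂
  retract : ιA ≫ r = 𝟙 _
  surj : Function.Surjective ιO.left
  sq : ιO ≫ i = i₀ ≫ ιA
  chart₁ : κ₁ ≫ ιP = ιA ≫ ι₁
  chart₂ : κ₂ ≫ ιP = ιA ≫ ι₂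
  proj₁ : ι₁ ≫ π = r ≫ l₀
  proj₂ : ι₂ ≫ π = r ≫ l₀
  proj₀₁ : κ₁ ≫ π₀ = l₀
  proj₀₂ : κ₂ ≫ π₀ = l₀

/-- An object over the thickening that is constant on the reduced part is constant. -/
def TCAt {T₀ : Over S} (η₀ : 𝒳.p.Fiber T₀) : Prop :=
  ∀ {A O P A₀ O₀ P₀ : Over S} (i : O ⟶ A) (ι₁ ι₂ : A ⟶ P) (i₀ : O₀ ⟶ A₀) (κ₁ κ₂ : A₀ ⟶ P₀)
    (ιA : A₀ ⟶ A) (ιO : O₀ ⟶ O) (ιP : P₀ ⟶ P) (r : A ⟶ A₀) (l₀ : A₀ ⟶ T₀) (π : P ⟶ T₀) (π₀ : P₀ ⟶ T₀),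
    Thick i ι₁ ι₂ i₀ κ₁ κ₂ ιA ιO ιP r l₀ π π₀ →
    ∀ (y : 𝒳.p.Fiber A) (x : 𝒳.p.Fiber P) (z : 𝒳.p.Fiber P₀) (ρ : y.1 ⟶ η₀.1)
      (μ₁ μ₂ : y.1 ⟶ x.1) (ζ : z.1 ⟶ x.1) (ζ₀ : z.1 ⟶ η₀.1),
      𝒳.p.IsHomLift (r ≫ l₀) ρ → 𝒳.p.IsHomLift ι₁ μ₁ → 𝒳.p.IsHomLift ι₂ μ₂ →
      𝒳.p.IsHomLift ιP ζ → 𝒳.p.IsHomLift π₀ ζ₀ → ∃ a : x.1 ⟶ η₀.1, 𝒳.p.IsHomLift π a

/-- Objects over thickenings that are constant on the reduced part are constant. -/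
def TC (𝒳 : AlgSt.Cat S) : Prop := ∀ {T₀ : Over S} (η₀ : 𝒳.p.Fiber T₀), TCAt η₀

theorem tcAt_of_sep (hS : Stk.IsStack (AlgSp.J S) 𝒳) {T₀ : Over S} (η₀ : 𝒳.p.Fiber T₀)
    (hsep : ∀ {b q : 𝒳.obj} (f f' : b ⟶ η₀.1) (ν : q ⟶ b), 𝒳.p.map f = 𝒳.p.map f' →
      Function.Surjective (𝒳.p.map ν).left → ν ≫ f = ν ≫ f' → f = f') : TCAt η₀ := by
  obtain ⟨η, eη⟩ := η₀
  intro A O P A₀ O₀ P₀ i ι₁ ι₂ i₀ κ₁ κ₂ ιA ιO ιP r l₀ π π₀ C ⟨y, ey⟩ ⟨x, ex⟩ ⟨z, ez⟩ ρ μ₁ μ₂ ζ ζ₀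
    hρ h₁ h₂ hζ hζ₀
  subst ey
  have h := hS.1
  have mρ : 𝒳.p.map ρ = r ≫ l₀ ≫ eqToHom eη.symm := (IsHomLift.fac' 𝒳.p (r ≫ l₀) ρ).trans (by simp)
  let μ : Bool → (y ⟶ x) := fun s => if s then μ₂ else μ₁
  have mμ : ∀ s, 𝒳.p.map (μ s) = (if s then ι₂ else ι₁) ≫ eqToHom ex.symm := fun s => by
    cases s
    · exact (IsHomLift.fac' 𝒳.p ι₁ μ₁).trans (by simp)
    · exact (IsHomLift.fac' 𝒳.p ι₂ μ₂).trans (by simp)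
  have mζ : 𝒳.p.map ζ = eqToHom ez ≫ ιP ≫ eqToHom ex.symm := IsHomLift.fac' 𝒳.p ιP ζ
  have mζ₀ : 𝒳.p.map ζ₀ = eqToHom ez ≫ π₀ ≫ eqToHom eη.symm := IsHomLift.fac' 𝒳.p π₀ ζ₀
  obtain ⟨y₀, s, ey₀, hs⟩ := fibGrpd_lift h y ιA
  obtain ⟨ret, hretm, hret⟩ := (fibGrpd_fac h (s ≫ ρ) ρ (r ≫ eqToHom ey₀.symm) (by
    rw [𝒳.p.map_comp, hs, mρ]
    simp [reassoc_of% C.retract])).exists
  choose n hn _ using fun b : Bool => fibGrpd_fac h ζ (s ≫ μ b)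
    (eqToHom ey₀ ≫ (if b then κ₂ else κ₁) ≫ eqToHom ez.symm) (by
      rw [mζ, 𝒳.p.map_comp, hs, mμ]
      cases b <;> simp [reassoc_of% C.chart₁, reassoc_of% C.chart₂])
  let τ : Bool → (y ⟶ η) := fun b => ret ≫ n b ≫ ζ₀
  have hτ : ∀ b, 𝒳.p.map (τ b) = r ≫ l₀ ≫ eqToHom eη.symm := fun b => by
    simp only [τ, 𝒳.p.map_comp, hretm, (hn b).1, mζ₀]
    cases b <;> simp [reassoc_of% C.proj₀₁, reassoc_of% C.proj₀₂]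
  have hsr : s ≫ ret = 𝟙 y₀ := fibGrpd_ext h (s ≫ ρ)
    (by rw [𝒳.p.map_comp, hs, hretm, 𝒳.p.map_id]; simp [reassoc_of% C.retract])
    (by rw [Category.assoc, hret, Category.id_comp])
  -- the overlap
  obtain ⟨zW, w, eW, hw⟩ := fibGrpd_lift h y i
  obtain ⟨v, ⟨hvm, hv⟩, -⟩ := fibGrpd_fac h (w ≫ μ true) (w ≫ μ false) (𝟙 _) (by
    rw [Category.id_comp, 𝒳.p.map_comp, 𝒳.p.map_comp, hw, mμ, mμ]
    simp [reassoc_of% C.hP.sq.w])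
  obtain ⟨zW₀, t, eW₀, ht⟩ := fibGrpd_lift h zW (ιO ≫ eqToHom eW.symm)
  choose w₀ hw₀ _ using fun b : Bool => fibGrpd_fac h s (t ≫ if b then v ≫ w else w)
    (eqToHom eW₀ ≫ i₀ ≫ eqToHom ey₀.symm) (by
      rw [hs, 𝒳.p.map_comp, ht]
      cases b <;> simp [hvm, hw, C.sq])
  have hover : w ≫ τ false = (v ≫ w) ≫ τ true := by
    have e0 : w₀ false ≫ n false = w₀ true ≫ n true := by
      refine fibGrpd_ext h ζ ?_ ?_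
      · simp only [𝒳.p.map_comp, (hw₀ _).1, (hn _).1]
        simp [reassoc_of% C.hP₀.sq.w]
      · simp only [Category.assoc, (hn _).2, reassoc_of% (hw₀ false).2, reassoc_of% (hw₀ true).2]
        simp only [Bool.false_eq_true, if_false, if_true, Category.assoc]
        rw [hv]
    have e1 : ∀ b, t ≫ (if b then v ≫ w else w) ≫ τ b = w₀ b ≫ n b ≫ ζ₀ := fun b => by
      rw [← reassoc_of% (hw₀ b).2]
      simp only [τ, reassoc_of% hsr]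
    refine hsep _ _ t (by simp only [𝒳.p.map_comp, hτ, hvm, Category.id_comp]) ?_ ?_
    · rw [ht]
      intro p
      subst eW eW₀
      obtain ⟨q, hq⟩ := C.surj p
      exact ⟨q, by simpa using hq⟩
    · refine (e1 false).trans (Eq.trans ?_ ((congrArg (t ≫ ·) (Category.assoc _ _ _)).trans
        ((congrArg (t ≫ ·) (Category.assoc _ _ _).symm).trans (e1 true))).symm)
      rw [reassoc_of% e0]
  obtain ⟨ηP, a, eP, ha⟩ := fibGrpd_lift h η (π ≫ eqToHom eη.symm)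
  choose α hα _ using fun b : Bool => fibGrpd_fac h a (τ b) ((if b then ι₂ else ι₁) ≫ eqToHom eP.symm) (by
    rw [ha, hτ]
    cases b <;> simp [reassoc_of% C.proj₁, reassoc_of% C.proj₂])
  obtain ⟨χ, hχ, -, -⟩ := exists_of_charts hS C.hP ex eP eW (z := fun _ : Bool => y) (fun _ => rfl) μ α
    (fun b => if b then v ≫ w else w) (fun b => by rw [mμ]; simp) (fun b => by rw [(hα b).1]; simp)
    (fun b => by cases b <;> simp [hw, hvm])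
    (by simpa using hv.symm)
    (fibGrpd_ext h a (by
        simp only [𝒳.p.map_comp, (hα _).1, hvm, hw, Bool.false_eq_true, if_false, if_true]
        simp [reassoc_of% C.hP.sq.w]) (by
        simp only [Category.assoc, (hα _).2, Bool.false_eq_true, if_false, if_true]
        simpa using hover))
  exact ⟨χ ≫ a, IsHomLift.of_fac' 𝒳.p _ _ ex eη (by rw [𝒳.p.map_comp, hχ, ha]; simp)⟩

theorem tc_of_isDMOver (hS : Stk.IsStack (AlgSp.J S) 𝒳) (hd : AlgSt.IsDMOver 𝒳) : TC 𝒳 := fun η₀ =>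
  tcAt_of_sep hS η₀ fun f f' ν hf hν he => by
    obtain ⟨χ, ⟨hχm, hχ⟩, -⟩ := fibGrpd_fac hS.1 f' f (𝟙 _) ((Category.id_comp _).trans hf.symm)
    have h1 : ν ≫ χ = ν := fibGrpd_ext hS.1 f' (by rw [𝒳.p.map_comp, hχm, Category.comp_id])
      (by rw [Category.assoc, hχ, he])
    rw [← hχ, aut_eq_id_of_surjective hS.1 hd χ hχm ν hν h1, Category.id_comp]

theorem tcAt_of_fIso (h𝒳 : IsFibGrpd 𝒳.p) (h𝒴 : IsFibGrpd 𝒴.p) (φ : IsoNat.FIso 𝒳 𝒴) {T₀ : Over S}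
    (η₀ : 𝒴.p.Fiber T₀) (H : TCAt (rep (symmFIso φ h𝒳 h𝒴) η₀)) : TCAt η₀ := by
  intro A O P A₀ O₀ P₀ i ι₁ ι₂ i₀ κ₁ κ₂ ιA ιO ιP r l₀ π π₀ C y x z ρ μ₁ μ₂ ζ ζ₀ hρ h₁ h₂ hζ hζ₀
  let ψ := symmFIso φ h𝒳 h𝒴
  have move : ∀ {U V : Over S} {g : U ⟶ V} (p : 𝒴.p.Fiber U) (q : 𝒴.p.Fiber V) (f : p.1 ⟶ q.1),
      𝒴.p.IsHomLift g f → ∃ f' : (rep ψ p).1 ⟶ (rep ψ q).1, 𝒳.p.IsHomLift g f' := by
    intro U V g p q f hf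
    obtain ⟨p₁, q₁, b, hb, hp₁, hq₁⟩ := ψ.natural g p q f hf
    exact exists_hom_of_cls b hb (hp₁.symm.trans (cls_rep ψ p).symm) (hq₁.symm.trans (cls_rep ψ q).symm)
  obtain ⟨ρ', hρ'⟩ := move y η₀ ρ hρ
  obtain ⟨μ₁', h₁'⟩ := move y x μ₁ h₁
  obtain ⟨μ₂', h₂'⟩ := move y x μ₂ h₂
  obtain ⟨ζ', hζ'⟩ := move z x ζ hζ
  obtain ⟨ζ₀', hζ₀'⟩ := move z η₀ ζ₀ hζ₀
  obtain ⟨a, ha⟩ := H i ι₁ ι₂ i₀ κ₁ κ₂ ιA ιO ιP r l₀ π π₀ C (rep ψ y) (rep ψ x) (rep ψ z)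
    ρ' μ₁' μ₂' ζ' ζ₀' hρ' h₁' h₂' hζ' hζ₀'
  obtain ⟨x₁, η₁, b, hb, hx₁, hη₁⟩ := φ.natural π (rep ψ x) (rep ψ η₀) a ha
  refine exists_hom_of_cls b hb ?_ ?_
  · rw [← hx₁, cls_rep]
    exact (φ.toEquiv P).apply_symm_apply _
  · rw [← hη₁, cls_rep]
    exact (φ.toEquiv T₀).apply_symm_apply _

theorem tc_of_fIso (h𝒳 : IsFibGrpd 𝒳.p) (h𝒴 : IsFibGrpd 𝒴.p) (φ : IsoNat.FIso 𝒳 𝒴) (H : TC 𝒳) : TC 𝒴 :=
  fun η₀ => tcAt_of_fIso h𝒳 h𝒴 φ η₀ (H _)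

end Groth.Agent.IsoNatLib.Tangent
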