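import Groth.Agent.IsoNatLib.Tangent.CrossMap
import Groth.Agent.IsoNatLib.Tangent.Thick
import Groth.Agent.IsoNatLib.Twist.Res

/-!
# Infinitesimal rigidity read on isomorphism classes

An automorphism over the dual numbers, trivial at the point, twists the doubled crossing of two lines
over the dual numbers; the twist is constant only if the automorphism is trivial.
-/

set_option autoImplicit false
set_option linter.style.haveILetI false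
set_option backward.isDefEq.respectTransparency false
set_option backward.isDefEq.respectTransparency.types false

universe u

open CategoryTheory CategoryTheory.Limits AlgebraicGeometry Opposite FibCat
open Polynomial
open Groth.Agent.Stk19 Groth.Agent.Desc19 Groth.Agent.IsoNatLib.Twist

namespace Groth.Agent.IsoNatLib.Tangent

variable {S : Scheme.{u}} {𝒴 : AlgSt.Cat S}

section Ring

variable (K : Type u) [CommRing K]

/-- The projection of dual numbers. -/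
noncomputable abbrev fstR : (CommRingCat.of (DualNumber K)) →+* (CommRingCat.of K) :=
  (TrivSqZeroExt.fstHom K K K).toRingHom

/-- The inclusion into dual numbers. -/
noncomputable abbrev inlR : (CommRingCat.of K) →+* (CommRingCat.of (DualNumber K)) :=
  TrivSqZeroExt.inlHom K K

theorem fstR_inlR : (fstR K).comp (inlR K) = RingHom.id _ :=
  RingHom.ext fun r => TrivSqZeroExt.fst_inl K r

theorem axesMap_fst_surjective : Function.Surjective (axesMap (fstR K)) := fun a => by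
  refine ⟨axesMap (inlR K) a, ?_⟩
  show ((axesMap (fstR K)).comp (axesMap (inlR K))) a = a
  rw [axesMap_comp, fstR_inlR, axesMap_id]
  rfl

theorem map_fst_sq_zero {p : (DualNumber K)[X]} (hp : p.map (TrivSqZeroExt.fstHom K K K).toRingHom = 0) :
    p * p = 0 := by
  have hc : ∀ n, TrivSqZeroExt.fst (p.coeff n) = 0 := fun n => by
    have := congrArg (fun q => q.coeff n) hp
    simpa [Polynomial.coeff_map] using this
  ext n : 1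
  rw [Polynomial.coeff_mul, Polynomial.coeff_zero]
  refine Finset.sum_eq_zero fun ab _ => TrivSqZeroExt.ext (by simp [hc]) (by simp [hc])

theorem axesMap_fst_ker (r : ↥(axes (CommRingCat.of (DualNumber K)))) (hr : axesMap (fstR K) r = 0) :
    r * r = 0 := by
  have h1 := congrArg (fun a : ↥(axes (CommRingCat.of K)) => (a : K[X] × K[X])) hr
  simp only [axesMap] at h1
  exact Subtype.ext (Prod.ext (map_fst_sq_zero K (congrArg Prod.fst h1)) (map_fst_sq_zero K (congrArg Prod.snd h1)))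

end Ring

/-- The automorphism is trivial when the twist by it on the thickening is constant. -/
theorem aut_eq_id_of_tc (hS : Stk.IsStack (AlgSp.J S) 𝒴)
    (hd : AlgSt.RepByAlgSpWith AlgSp.IsSeparatedMor (FibCat.diag (toSelf 𝒴)))
    {T T₀ A O A₀ O₀ : Over S} {dπ : T ⟶ T₀} {dι : T₀ ⟶ T} {i : O ⟶ A} {D : Bool → Over S}
    {inc : ∀ s, D s ⟶ O} {l : A ⟶ T} {σ : T ⟶ A} (C : Crossing T A O i D inc l σ) {i₀ : O₀ ⟶ A₀}
    [IsOpenImmersion i₀.left] {D₀ : Bool → Over S} {inc₀ : ∀ s, D₀ s ⟶ O₀} {l₀ : A₀ ⟶ T₀}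
    (hcov₀ : Sieve.ofArrows (fun k : ULift.{u} Bool => D₀ k.down) (fun k => inc₀ k.down) ∈ AlgSp.J S O₀)
    {ιA : A₀ ⟶ A} {ιO : O₀ ⟶ O} {r : A ⟶ A₀} (hretract : ιA ≫ r = 𝟙 _)
    (hsurj : Function.Surjective ιO.left) (hsq : ιO ≫ i = i₀ ≫ ιA) (md : ∀ s, D₀ s ⟶ D s)
    (hmd : ∀ s, md s ≫ inc s = inc₀ s ≫ ιO) (hl : l ≫ dπ = r ≫ l₀) (hl₀ : ιA ≫ l = l₀ ≫ dι)
    {a a₀ z₀ : 𝒴.obj} (ea : 𝒴.p.obj a = T) (e₀ : 𝒴.p.obj a₀ = T₀) (ez₀ : 𝒴.p.obj z₀ = T₀)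
    (ν₀ : a ⟶ a₀) (ν : z₀ ⟶ a) (φ : a ⟶ a) (hν₀ : 𝒴.p.map ν₀ = eqToHom ea ≫ dπ ≫ eqToHom e₀.symm)
    (hν : 𝒴.p.map ν = eqToHom ez₀ ≫ dι ≫ eqToHom ea.symm) (hφ : 𝒴.p.map φ = 𝟙 _) (hνφ : ν ≫ φ = ν)
    (H : TCAt (⟨a₀, e₀⟩ : 𝒴.p.Fiber T₀)) :
    φ = 𝟙 a := by
  have h := hS.1
  haveI := C.open_i
  obtain ⟨P, ι₁, ι₂, hP, hdP⟩ := exists_doubled i
  obtain ⟨P₀, κ₁, κ₂, hP₀, hdP₀⟩ := exists_doubled i₀
  obtain ⟨ιP, hc₁, hc₂⟩ := hdP₀ (ιA ≫ ι₁) (ιA ≫ ι₂) (by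
    rw [← reassoc_of% hsq, hP.sq.w, reassoc_of% hsq])
  obtain ⟨πa, hπ₁, hπ₂⟩ := hdP l l rfl
  obtain ⟨π₀, hπ₀₁, hπ₀₂⟩ := hdP₀ l₀ l₀ rfl
  have G : Thick i ι₁ ι₂ i₀ κ₁ κ₂ ιA ιO ιP r l₀ (πa ≫ dπ) π₀ :=
    ⟨hP, hP₀, hretract, hsurj, hsq, hc₁, hc₂,
      by rw [reassoc_of% hπ₁, hl], by rw [reassoc_of% hπ₂, hl], hπ₀₁, hπ₀₂⟩
  -- the twisted object
  subst ea e₀
  simp only [eqToHom_refl, Category.comp_id, Category.id_comp] at hν₀ hν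
  obtain ⟨y, ρy, ey, hρy⟩ := fibGrpd_lift h a l
  subst ey
  rw [eqToHom_refl, Category.id_comp] at hρy
  obtain ⟨zW, w, eW, hw⟩ := fibGrpd_lift h y i
  obtain ⟨φy, hφy⟩ := exists_res h ρy hφ
  obtain ⟨φO, hφO⟩ := exists_res h w hφy.map_eq
  choose zD δ eD hδ using fun s => fibGrpd_lift h zW (inc s ≫ eqToHom eW.symm)
  haveI hopen : ∀ s, IsOpenImmersion (𝒴.p.map (δ s)).left := fun s => by
    haveI := C.open_inc s
    rw [hδ, Over.comp_left, Over.comp_left]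
    infer_instance
  have hcov : Sieve.ofArrows _ (fun k : ULift.{u} Bool => 𝒴.p.map (δ k.down)) ∈ AlgSp.J S (𝒴.p.obj zW) := by
    subst eW
    refine GrothendieckTopology.superset_covering _ ?_ C.cover
    rw [Sieve.ofArrows, Sieve.generate_le_iff]
    rintro V f ⟨k⟩
    exact ⟨_, eqToHom (eD k.down).symm, 𝒴.p.map (δ k.down), Presieve.ofArrows.mk k, by rw [hδ]; simp⟩
  obtain ⟨v, hvm, hv⟩ := glue_disjoint hS (x := zW) (y := zW) rfl (fun k : ULift.{u} Bool => zD k.down)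
    (fun k => δ k.down) (fun k => δ k.down ≫ if k.down then 𝟙 zW else φO)
    (fun k => by rw [𝒴.p.map_comp]; obtain ⟨_ | _⟩ := k <;> simp [hφO.map_eq])
    (fun k => (Over.forget S).mono_of_mono_map (inferInstanceAs (Mono (𝒴.p.map (δ k.down)).left)))
    hcov
    (fun Z k k' b b' hb => by
      rw [hδ, hδ] at hb
      simp only [← Category.assoc, cancel_mono] at hb
      rcases C.disjoint Z _ _ _ _ hb with h' | h'
      · exact Or.inl (ULift.ext _ _ h')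
      · exact Or.inr h')
  rw [eqToHom_refl] at hvm
  have hvf : δ false ≫ v = δ false ≫ φO := hv ⟨false⟩
  have hvt : δ true ≫ v = δ true := by simpa using hv ⟨true⟩
  haveI := hP.mono₁
  haveI := hP.mono₂
  obtain ⟨x, hx, μ₁, μ₂, hμ₁, hμ₂, hμ⟩ := exists_twist hS (πa ≫ dπ) ι₁ ι₂ (ρy ≫ ν₀) w
    (by rw [reassoc_of% hπ₁, 𝒴.p.map_comp, hρy, hν₀])
    (by rw [reassoc_of% hπ₂, 𝒴.p.map_comp, hρy, hν₀])
    (by rw [hw]; subst eW; simpa using hP.sq) hP.cover v hvm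
  -- it is constant on the reduced part
  obtain ⟨y₀, s, ey₀, hs⟩ := fibGrpd_lift h y ιA
  obtain ⟨zW₀, t, eW₀, ht⟩ := fibGrpd_lift h zW (ιO ≫ eqToHom eW.symm)
  obtain ⟨w₀, hw₀m, hw₀⟩ := (fibGrpd_fac h s (t ≫ w) (eqToHom eW₀ ≫ i₀ ≫ eqToHom ey₀.symm) (by
    rw [hs, 𝒴.p.map_comp, ht, hw]; simp [hsq])).exists
  have hfix : s ≫ ρy ≫ φ = s ≫ ρy := by
    obtain ⟨g, -, hg⟩ := (fibGrpd_fac h ν (s ≫ ρy) (eqToHom ey₀ ≫ l₀ ≫ eqToHom ez₀.symm) (by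
      rw [hν, 𝒴.p.map_comp, hs, hρy]; simp [hl₀])).exists
    rw [← reassoc_of% hg, hνφ, hg]
  have htφ : t ≫ φO = t := by
    refine fibGrpd_ext h (w ≫ ρy) (by rw [𝒴.p.map_comp, hφO.map_eq, Category.comp_id]) ?_
    rw [Category.assoc, reassoc_of% hφO.comm, hφy.comm, ← reassoc_of% hw₀, hfix, reassoc_of% hw₀]
  have htv : t ≫ v = t := by
    choose zd γ ed hγ using fun k : ULift.{u} Bool => fibGrpd_lift h zW₀ (inc₀ k.down ≫ eqToHom eW₀.symm)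
    subst eW₀
    refine hom_ext_of_cover hS (fun k : ULift.{u} Bool => inc₀ k.down) hcov₀ γ ed
      (fun k => by rw [hγ]; simp) _ _ (by simp [hvm]) fun k => ?_
    obtain ⟨g, -, hg⟩ := (fibGrpd_fac h (δ k.down) (γ k ≫ t)
      (eqToHom (ed k) ≫ md k.down ≫ eqToHom (eD k.down).symm) (by
        rw [hδ, 𝒴.p.map_comp, hγ, ht]
        simp [reassoc_of% (hmd k.down)])).exists
    obtain ⟨_ | _⟩ := k
    · rw [← reassoc_of% hg, hvf, reassoc_of% hg, htφ]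
    · rw [← reassoc_of% hg, hvt, hg]
  obtain ⟨zP, ζ₀, eZ, hζ₀⟩ := fibGrpd_lift h a₀ π₀
  obtain ⟨x₀, ζ', ex₀, hζ'⟩ := fibGrpd_lift h x (ιP ≫ eqToHom hx.symm)
  choose m hm _ using fun b : Bool => fibGrpd_fac h ζ₀ (s ≫ ρy ≫ ν₀)
    (eqToHom ey₀ ≫ (if b then κ₂ else κ₁) ≫ eqToHom eZ.symm) (by
      rw [hζ₀, 𝒴.p.map_comp, 𝒴.p.map_comp, hs, hρy, hν₀]
      cases b <;> simp [hπ₀₁, hπ₀₂, hl, reassoc_of% hretract])
  choose τ hτ _ using fun b : Bool => fibGrpd_fac h ζ' (s ≫ if b then μ₂ else μ₁)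
    (eqToHom ey₀ ≫ (if b then κ₂ else κ₁) ≫ eqToHom ex₀.symm) (by
      rw [hζ', 𝒴.p.map_comp, hs]
      cases b <;> simp [hμ₁, hμ₂, reassoc_of% hc₁, reassoc_of% hc₂])
  obtain ⟨χ, hχ, -, -⟩ := exists_of_charts hS hP₀ eZ ex₀ eW₀ (z := fun _ : Bool => y₀) (fun _ => ey₀) m τ
    (fun _ => w₀) (fun b => (hm b).1) (fun b => (hτ b).1) (fun _ => hw₀m)
    (fibGrpd_ext h ζ₀ (by
        simp only [𝒴.p.map_comp, (hm _).1, hw₀m, Bool.false_eq_true, if_false, if_true]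
        simp [reassoc_of% hP₀.sq.w]) (by simp only [Category.assoc, (hm _).2]))
    (fibGrpd_ext h ζ' (by
        simp only [𝒴.p.map_comp, (hτ _).1, hw₀m, Bool.false_eq_true, if_false, if_true]
        simp [reassoc_of% hP₀.sq.w]) (by
        simp only [Category.assoc, (hτ _).2, Bool.false_eq_true, if_false, if_true]
        rw [reassoc_of% hw₀, reassoc_of% hw₀, hμ, reassoc_of% htv]))
  -- hence constant
  obtain ⟨a', ha'⟩ := H i ι₁ ι₂ i₀ κ₁ κ₂ ιA ιO ιP r l₀ (πa ≫ dπ) π₀ G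
    ⟨y, rfl⟩ ⟨x, hx⟩ ⟨zP, eZ⟩ (ρy ≫ ν₀) μ₁ μ₂ (χ ≫ ζ') ζ₀
    (IsHomLift.of_fac' 𝒴.p _ _ rfl rfl (by rw [𝒴.p.map_comp, hρy, hν₀]; simp [← hl]))
    (IsHomLift.of_fac' 𝒴.p _ _ rfl hx (by rw [hμ₁]; simp))
    (IsHomLift.of_fac' 𝒴.p _ _ rfl hx (by rw [hμ₂]; simp))
    (IsHomLift.of_fac' 𝒴.p _ _ eZ hx (by rw [𝒴.p.map_comp, hχ, hζ']; simp))
    (IsHomLift.of_fac' 𝒴.p _ _ eZ rfl (by simp [hζ₀]))
  haveI := ha'
  have ma' : 𝒴.p.map a' = eqToHom hx ≫ (πa ≫ dπ) :=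
    IsHomLift.fac' 𝒴.p (πa ≫ dπ) a'
  obtain ⟨c₁, hc₁m, hc₁'⟩ := (fibGrpd_fac h (ρy ≫ ν₀) (μ₁ ≫ a') (𝟙 _) (by
    rw [Category.id_comp, 𝒴.p.map_comp, 𝒴.p.map_comp, hρy, hν₀, hμ₁, ma']
    simp [reassoc_of% hπ₁])).exists
  obtain ⟨c₂, hc₂m, hc₂'⟩ := (fibGrpd_fac h (ρy ≫ ν₀) (μ₂ ≫ a') (𝟙 _) (by
    rw [Category.id_comp, 𝒴.p.map_comp, 𝒴.p.map_comp, hρy, hν₀, hμ₂, ma']
    simp [reassoc_of% hπ₂])).exists
  have hwc : w ≫ c₁ = v ≫ w ≫ c₂ := by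
    refine fibGrpd_ext h (ρy ≫ ν₀) (by simp [hc₁m, hc₂m, hvm]) ?_
    simp only [Category.assoc, hc₁', hc₂']
    rw [reassoc_of% hμ]
  have hl₁ : δ true ≫ w ≫ c₁ = δ true ≫ w ≫ c₂ := by rw [hwc, reassoc_of% hvt]
  have hl₂ : δ false ≫ w ≫ c₁ = δ false ≫ w ≫ φy ≫ c₂ := by
    rw [hwc, reassoc_of% hvf, reassoc_of% hφO.comm]
  -- at the origin
  obtain ⟨ω₀, hω₀m, hω₀⟩ := (fibGrpd_fac h ρy (𝟙 a) σ (by
    rw [hρy, C.section_eq, 𝒴.p.map_id])).exists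
  have horig : ∀ (k : Bool) (F G : y ⟶ y), 𝒴.p.map F = 𝟙 _ → 𝒴.p.map G = 𝟙 _ →
      δ k ≫ w ≫ F = δ k ≫ w ≫ G → ω₀ ≫ F = ω₀ ≫ G := by
    intro k F G hF' hG' hFG
    obtain ⟨M, V, m', tm, d, om, hdom, hdm, hom⟩ := C.line k
    obtain ⟨zM, em, eM, hem⟩ := fibGrpd_lift h y m'
    subst eM
    rw [eqToHom_refl, Category.id_comp] at hem
    subst hem
    obtain ⟨zV, tV, eV, htV⟩ := fibGrpd_lift h zM tm
    subst eV
    rw [eqToHom_refl, Category.id_comp] at htV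
    subst htV
    obtain ⟨γ', -, hγ⟩ := (fibGrpd_fac h (δ k ≫ w) (tV ≫ em) (d ≫ eqToHom (eD k).symm) (by
      rw [𝒴.p.map_comp, 𝒴.p.map_comp, hδ, hw]; simp [hdm])).exists
    obtain ⟨ω', -, hω'⟩ := (fibGrpd_fac h em ω₀ om (by rw [hω₀m, hom])).exists
    have := hom_ext_of_dominant h hd (em ≫ F) (em ≫ G) (by simp [hF', hG']) tV hdom (by
      rw [← reassoc_of% hγ, ← reassoc_of% hγ, hFG])
    rw [← hω', Category.assoc, Category.assoc, this]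
  obtain ⟨C₁, hC₁⟩ := exists_res h ω₀ hc₁m
  obtain ⟨C₂, hC₂⟩ := exists_res h ω₀ hc₂m
  have hφ₀ : IsRes ω₀ φy φ := by
    refine ⟨hφ, fibGrpd_ext h ρy ?_ ?_⟩
    · simp [hφ, hφy.map_eq]
    · rw [Category.assoc, hω₀, Category.comp_id, Category.assoc, hφy.comm, reassoc_of% hω₀]
  have h12 : C₁ = C₂ := fibGrpd_ext h ω₀ (hC₁.map_eq.trans hC₂.map_eq.symm)
    (hC₁.comm.trans ((horig true _ _ hc₁m hc₂m hl₁).trans hC₂.comm.symm))
  have hC := hφ₀.comp hC₂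
  have h1φ : C₁ = φ ≫ C₂ := fibGrpd_ext h ω₀ (hC₁.map_eq.trans hC.map_eq.symm)
    (hC₁.comm.trans ((horig false _ _ hc₁m (by simp [hc₂m, hφy.map_eq]) hl₂).trans hC.comm.symm))
  haveI := isIso_of_map h hC₂.map_eq
  rw [← cancel_mono C₂, Category.id_comp, ← h1φ, h12]

theorem infRigid_of_tc (hS : Stk.IsStack (AlgSp.J S) 𝒴)
    (hd : AlgSt.RepByAlgSpWith AlgSp.IsSeparatedMor (FibCat.diag (toSelf 𝒴))) (H : TC 𝒴) : InfRigid 𝒴 := by
  intro K _ j₀ a a₀ z₀ ea e₀ ez₀ ν₀ ν φ hν₀ hν hφ hνφ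
  let j : Spec (CommRingCat.of (DualNumber K)) ⟶ S := proj K ≫ j₀
  have hh : Spec.map (CommRingCat.ofHom (fstR K)) ≫ j = j₀ := by
    show clPt K ≫ proj K ≫ j₀ = j₀
    rw [← Category.assoc, clPt_proj, Category.id_comp]
  have hh' : Spec.map (CommRingCat.ofHom (inlR K)) ≫ j₀ = j := rfl
  haveI : IsOpenImmersion (stdI j₀).left := (crossing_std j₀).open_i
  exact aut_eq_id_of_tc hS hd (crossing_std j) (crossing_std j₀).cover
    (mapA_retract (inlR K) hh' (fstR K) hh (fstR_inlR K))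
    (mapO_surjective _ hh (axesMap_fst_surjective K) (axesMap_fst_ker K)) (mapO_comp (fstR K) hh)
    (mapD (fstR K) hh) (mapD_comp (fstR K) hh) (mapA_stdL (inlR K) hh' (dπ j₀) rfl).symm
    (mapA_stdL (fstR K) hh (dι j₀) rfl) ea e₀ ez₀ ν₀ ν φ hν₀ hν hφ hνφ (H _)

end Groth.Agent.IsoNatLib.Tangent
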