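import Groth.Agent.IsoNatLib.Twist.Axes
import Groth.Agent.IsoNatLib.Tangent.Lift

/-! The crossing of two lines, functorially in the coefficient ring. -/

set_option autoImplicit false
set_option linter.style.haveILetI false
set_option backward.isDefEq.respectTransparency false
set_option backward.isDefEq.respectTransparency.types false

universe u

open CategoryTheory CategoryTheory.Limits AlgebraicGeometry Opposite
open Polynomial
open Groth.Agent.IsoNatLib.Twist

namespace Groth.Agent.IsoNatLib.Tangent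

variable {S : Scheme.{u}}

section Std

variable {R : CommRingCat.{u}} (j₀ : Spec R ⟶ S)

/-- The two crossing lines. -/
noncomputable abbrev stdA : Over S :=
  Over.mk (Spec.map (CommRingCat.ofHom (algebraMap R ↥(axes R))) ≫ j₀)

/-- The projection. -/
noncomputable abbrev stdL : stdA j₀ ⟶ Over.mk j₀ :=
  Over.homMk (Spec.map (CommRingCat.ofHom (algebraMap R ↥(axes R))))

variable (R) in
/-- The punctured lines, as opens. -/
noncomputable abbrev stdOpen (s : Bool) : (Spec (CommRingCat.of ↥(axes R))).Opens :=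
  PrimeSpectrum.basicOpen (coord R s)

variable (R) in
/-- The punctured crossing, as an open. -/
noncomputable abbrev stdUnion : (Spec (CommRingCat.of ↥(axes R))).Opens := stdOpen R false ⊔ stdOpen R true

theorem stdOpen_le (s : Bool) : stdOpen R s ≤ stdUnion R := by
  cases s
  exacts [le_sup_left, le_sup_right]

/-- The punctured crossing. -/
noncomputable abbrev stdO : Over S := Over.mk ((stdUnion R).ι ≫ (stdA j₀).hom)

/-- Its inclusion. -/
noncomputable abbrev stdI : stdO j₀ ⟶ stdA j₀ := Over.homMk (stdUnion R).ι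

/-- A punctured line. -/
noncomputable abbrev stdD (s : Bool) : Over S := Over.mk ((stdOpen R s).ι ≫ (stdA j₀).hom)

/-- Its inclusion. -/
noncomputable abbrev stdInc (s : Bool) : stdD j₀ s ⟶ stdO j₀ :=
  Over.homMk ((Spec (CommRingCat.of ↥(axes R))).homOfLE (stdOpen_le s)) (by
    show (Spec (CommRingCat.of ↥(axes R))).homOfLE _ ≫ (stdUnion R).ι ≫ (stdA j₀).hom = _
    rw [Scheme.homOfLE_ι_assoc]
    rfl)

theorem origin_algebraMap : (origin R).comp (algebraMap R ↥(axes R)) = RingHom.id R := by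
  rw [origin, RingHom.comp_assoc, proj_algebraMap]
  exact RingHom.ext fun r => by simp

/-- The origin. -/
noncomputable abbrev stdSec : Over.mk j₀ ⟶ stdA j₀ :=
  Over.homMk (Spec.map (CommRingCat.ofHom (origin R))) (by
    show Spec.map _ ≫ Spec.map _ ≫ j₀ = j₀
    rw [← Spec.map_comp_assoc, ← CommRingCat.ofHom_comp, origin_algebraMap, CommRingCat.ofHom_id]
    erw [Spec.map_id, Category.id_comp])

theorem crossing_std :
    Crossing (Over.mk j₀) (stdA j₀) (stdO j₀) (stdI j₀) (stdD j₀) (stdInc j₀) (stdL j₀) (stdSec j₀) := by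
  let A : CommRingCat.{u} := CommRingCat.of ↥(axes R)
  let L := stdA j₀
  let D := stdOpen R
  let O := stdUnion R
  let W := stdO j₀
  let i := stdI j₀
  have hle : ∀ s, D s ≤ O := stdOpen_le
  let V := stdD j₀
  let inc := stdInc j₀
  have hinc : ∀ s, inc s ≫ i = (Over.homMk (D s).ι : V s ⟶ L) := fun s =>
    Over.OverMorphism.ext (Scheme.homOfLE_ι _ (hle s))
  have hopen : ∀ s, IsOpenImmersion (inc s).left := fun s =>
    inferInstanceAs (IsOpenImmersion ((Spec A).homOfLE (hle s)))
  let σ := stdSec j₀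
  have hσl : σ ≫ stdL j₀ = 𝟙 _ := Over.OverMorphism.ext (by
    show Spec.map _ ≫ Spec.map _ = 𝟙 (Spec R)
    rw [← Spec.map_comp, ← CommRingCat.ofHom_comp, origin_algebraMap, CommRingCat.ofHom_id]
    simp)
  haveI : ∀ k : ULift.{u} Bool, IsOpenImmersion (inc k.down).left := fun k => hopen k.down
  refine ⟨inferInstanceAs (IsOpenImmersion O.ι), hopen, hσl, ?_, ?_, fun s => ?_⟩
  · refine AlgSpLib.ofArrows_mem_J _ fun q => ?_
    have key : ∀ (s : Bool), (q : ↥O.toScheme).1 ∈ D s → q ∈ Set.range (inc s).left := fun s hq =>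
      ⟨⟨_, hq⟩, O.ι.isOpenEmbedding.injective (congrArg (fun f : V s ⟶ L => f.left ⟨_, hq⟩) (hinc s))⟩
    rcases (q : ↥O.toScheme).2 with hq | hq
    exacts [⟨⟨false⟩, key false hq⟩, ⟨⟨true⟩, key true hq⟩]
  · intro Z k k' a b hab
    by_cases hk : k = k'
    · exact Or.inl hk
    refine Or.inr ⟨fun p => ?_⟩
    have h1 : (a ≫ inc k ≫ i).left p = (b ≫ inc k' ≫ i).left p := by
      rw [← Category.assoc, hab, Category.assoc]
    rw [hinc, hinc] at h1
    have hc : (a.left p).1 = (b.left p).1 := h1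
    have h3 : (a.left p).1 ∈ PrimeSpectrum.basicOpen (coord R false * coord R true) := by
      rw [PrimeSpectrum.basicOpen_mul]
      cases k <;> cases k'
      · exact absurd rfl hk
      · exact ⟨(a.left p).2, hc ▸ (b.left p).2⟩
      · exact ⟨hc ▸ (b.left p).2, (a.left p).2⟩
      · exact absurd rfl hk
    rw [coord_mul, PrimeSpectrum.basicOpen_zero] at h3
    exact h3
  let m₀ : Spec (CommRingCat.of R[X]) ⟶ Spec A := Spec.map (CommRingCat.ofHom (Groth.Agent.IsoNatLib.Twist.proj R s))
  let M : Over S := Over.mk (m₀ ≫ L.hom)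
  let m : M ⟶ L := Over.homMk m₀
  let f := CommRingCat.ofHom (algebraMap R[X] (Localization.Away (X : R[X])))
  let T₀ : Over S := Over.mk (Spec.map f ≫ M.hom)
  let t : T₀ ⟶ M := Over.homMk (Spec.map f)
  have hrg : Set.range (Spec.map f ≫ m₀) ⊆ Set.range (D s).ι := by
    rintro _ ⟨p, rfl⟩
    rw [Scheme.Opens.range_ι]
    show coord R s ∉ (PrimeSpectrum.comap (Groth.Agent.IsoNatLib.Twist.proj R s) (PrimeSpectrum.comap f.hom p)).asIdeal
    intro hmem
    have hu : IsUnit (algebraMap R[X] (Localization.Away (X : R[X])) X) :=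
      IsLocalization.map_units _ (⟨X, Submonoid.mem_powers _⟩ : Submonoid.powers (X : R[X]))
    refine p.2.ne_top (Ideal.eq_top_of_isUnit_mem _ ?_ hu)
    simpa [f, proj_coord] using hmem
  let d : T₀ ⟶ V s := Over.homMk (IsOpenImmersion.lift (D s).ι (Spec.map f ≫ m₀) hrg) (by
    show _ ≫ (D s).ι ≫ L.hom = _
    rw [IsOpenImmersion.lift_fac_assoc, Category.assoc]
    rfl)
  let o : Over.mk j₀ ⟶ M := Over.homMk (Spec.map (CommRingCat.ofHom (evalRingHom (0 : R)))) (by
    rw [← Over.w σ]
    show Spec.map _ ≫ Spec.map _ ≫ _ = Spec.map _ ≫ _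
    rw [← Spec.map_comp_assoc, ← CommRingCat.ofHom_comp]
    congr 3
    exact RingHom.ext fun a => ev_proj R a s)
  refine ⟨M, T₀, m, t, d, o, ?_, ?_, ?_⟩
  · exact isDominantSch_spec f
      (IsLocalization.injective _ (Submonoid.powers_le.2 Polynomial.monic_X.mem_nonZeroDivisors))
  · rw [hinc]
    exact Over.OverMorphism.ext (IsOpenImmersion.lift_fac _ _ _)
  · exact Over.OverMorphism.ext (by
      show Spec.map _ ≫ Spec.map _ = Spec.map _
      rw [← Spec.map_comp, ← CommRingCat.ofHom_comp]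
      congr 2
      exact RingHom.ext fun a => ev_proj R a s)

end Std

section Map

variable {R R' R'' : CommRingCat.{u}}

/-- Change of coefficients. -/
noncomputable def axesMap (φ : R →+* R') : ↥(axes R) →+* ↥(axes R') :=
  RingHom.codRestrict (((mapRingHom φ).prodMap (mapRingHom φ)).comp (axes R).val.toRingHom) (axes R') fun a => by
    have h : (a : R[X] × R[X]) ∈ axes R := a.2
    simp only [axes, AlgHom.mem_equalizer, AlgHom.comp_apply, AlgHom.fst_apply, AlgHom.snd_apply,
      coe_aeval_eq_eval, ← coeff_zero_eq_eval_zero] at h ⊢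
    simp [h]

theorem axesMap_coord (φ : R →+* R') (s : Bool) : axesMap φ (coord R s) = coord R' s :=
  Subtype.ext (by cases s <;> simp [axesMap, coord])

theorem axesMap_algebraMap (φ : R →+* R') :
    (axesMap φ).comp (algebraMap R ↥(axes R)) = (algebraMap R' ↥(axes R')).comp φ :=
  RingHom.ext fun r => Subtype.ext (by simp [axesMap])

theorem axesMap_comp (φ : R →+* R') (ψ : R' →+* R'') :
    (axesMap ψ).comp (axesMap φ) = axesMap (ψ.comp φ) :=
  RingHom.ext fun a => Subtype.ext (by simp [axesMap, Polynomial.map_map, Prod.ext_iff])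

theorem axesMap_id : axesMap (RingHom.id R) = RingHom.id ↥(axes R) :=
  RingHom.ext fun a => Subtype.ext (by simp [axesMap])

variable (φ : R →+* R') {j : Spec R ⟶ S} {j' : Spec R' ⟶ S} (h : Spec.map (CommRingCat.ofHom φ) ≫ j = j')

/-- The map of crossings. -/
noncomputable abbrev mapA : stdA j' ⟶ stdA j :=
  Over.homMk (Spec.map (CommRingCat.ofHom (axesMap φ))) (by
    show Spec.map _ ≫ Spec.map _ ≫ j = Spec.map _ ≫ j'
    rw [← h, ← Spec.map_comp_assoc, ← Spec.map_comp_assoc, ← CommRingCat.ofHom_comp, ← CommRingCat.ofHom_comp,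
      axesMap_algebraMap])

theorem range_le_stdOpen (s : Bool) :
    Set.range ((stdOpen R' s).ι ≫ Spec.map (CommRingCat.ofHom (axesMap φ))) ⊆ Set.range (stdOpen R s).ι := by
  rintro _ ⟨p, rfl⟩
  rw [Scheme.Opens.range_ι]
  show coord R s ∉ (PrimeSpectrum.comap (axesMap φ) p.1).asIdeal
  have h1 : coord R' s ∉ p.1.asIdeal := p.2
  simpa [axesMap_coord] using h1

theorem range_le_stdUnion :
    Set.range ((stdUnion R').ι ≫ Spec.map (CommRingCat.ofHom (axesMap φ))) ⊆ Set.range (stdUnion R).ι := by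
  rintro _ ⟨p, rfl⟩
  rw [Scheme.Opens.range_ι]
  have key : ∀ s, p.1 ∈ stdOpen R' s → PrimeSpectrum.comap (axesMap φ) p.1 ∈ stdOpen R s := fun s hs => by
    show coord R s ∉ (PrimeSpectrum.comap (axesMap φ) p.1).asIdeal
    have h1 : coord R' s ∉ p.1.asIdeal := hs
    simpa [axesMap_coord] using h1
  rcases p.2 with hp | hp
  exacts [Or.inl (key false hp), Or.inr (key true hp)]

/-- The map of punctured crossings. -/
noncomputable abbrev mapO : stdO j' ⟶ stdO j :=
  Over.homMk (IsOpenImmersion.lift (stdUnion R).ι _ (range_le_stdUnion φ)) (by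
    show _ ≫ (stdUnion R).ι ≫ (stdA j).hom = _
    rw [IsOpenImmersion.lift_fac_assoc, Category.assoc]
    exact congrArg ((stdUnion R').ι ≫ ·) (Over.w (mapA φ h)))

/-- The map of punctured lines. -/
noncomputable abbrev mapD (s : Bool) : stdD j' s ⟶ stdD j s :=
  Over.homMk (IsOpenImmersion.lift (stdOpen R s).ι _ (range_le_stdOpen φ s)) (by
    show _ ≫ (stdOpen R s).ι ≫ (stdA j).hom = _
    rw [IsOpenImmersion.lift_fac_assoc, Category.assoc]
    exact congrArg ((stdOpen R' s).ι ≫ ·) (Over.w (mapA φ h)))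

theorem mapO_comp : mapO φ h ≫ stdI j = stdI j' ≫ mapA φ h :=
  Over.OverMorphism.ext (IsOpenImmersion.lift_fac _ _ _)

theorem mapD_comp (s : Bool) : mapD φ h s ≫ stdInc j s = stdInc j' s ≫ mapO φ h := by
  refine Over.OverMorphism.ext ((cancel_mono (stdUnion R).ι).1 ?_)
  simp only [Over.comp_left, Category.assoc]
  show IsOpenImmersion.lift _ _ _ ≫ Scheme.homOfLE _ (stdOpen_le (R := R) s) ≫ _ =
    Scheme.homOfLE _ (stdOpen_le (R := R') s) ≫ IsOpenImmersion.lift _ _ _ ≫ _
  rw [Scheme.homOfLE_ι, IsOpenImmersion.lift_fac, IsOpenImmersion.lift_fac, Scheme.homOfLE_ι_assoc]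

theorem mapA_stdL (k : Over.mk j' ⟶ Over.mk j) (hk : k.left = Spec.map (CommRingCat.ofHom φ)) :
    mapA φ h ≫ stdL j = stdL j' ≫ k := by
  refine Over.OverMorphism.ext ?_
  simp only [Over.comp_left, hk]
  show Spec.map _ ≫ Spec.map _ = Spec.map _ ≫ Spec.map _
  rw [← Spec.map_comp, ← Spec.map_comp, ← CommRingCat.ofHom_comp, ← CommRingCat.ofHom_comp, axesMap_algebraMap]

theorem mapA_retract (ψ : R' →+* R) (h' : Spec.map (CommRingCat.ofHom ψ) ≫ j' = j) (hψ : ψ.comp φ = RingHom.id R) :
    mapA ψ h' ≫ mapA φ h = 𝟙 _ := by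
  refine Over.OverMorphism.ext ?_
  show Spec.map _ ≫ Spec.map _ = 𝟙 _
  rw [← Spec.map_comp, ← CommRingCat.ofHom_comp, axesMap_comp, hψ, axesMap_id, CommRingCat.ofHom_id, Spec.map_id]

theorem mapO_surjective (hφ : Function.Surjective (axesMap φ))
    (hker : ∀ r, axesMap φ r = 0 → r * r = 0) : Function.Surjective (mapO φ h).left := by
  intro p
  obtain ⟨q, hq⟩ : p.1 ∈ Set.range (PrimeSpectrum.comap (axesMap φ)) := by
    rw [range_comap_of_surjective _ _ hφ]
    intro r hr
    exact (p.1.isPrime.mem_or_mem (hker r hr ▸ Ideal.zero_mem _)).elim id id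
  have key : ∀ s, p.1 ∈ stdOpen R s → q ∈ stdOpen R' s := fun s hs => by
    have h1 : coord R s ∉ (PrimeSpectrum.comap (axesMap φ) q).asIdeal := by rw [hq]; exact hs
    show coord R' s ∉ q.asIdeal
    simpa [axesMap_coord] using h1
  have hqO : q ∈ stdUnion R' := p.2.elim (fun hs => Or.inl (key false hs)) fun hs => Or.inr (key true hs)
  exact ⟨⟨q, hqO⟩, (stdUnion R).ι.isOpenEmbedding.injective
    ((congrArg (fun f : (stdUnion R').toScheme ⟶ Spec (CommRingCat.of ↥(axes R)) => f ⟨q, hqO⟩)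
      (IsOpenImmersion.lift_fac (stdUnion R).ι _ (range_le_stdUnion φ))).trans (show _ = p.1 from hq))⟩

end Map

end Groth.Agent.IsoNatLib.Tangent
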